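import Groth.Agent.L14.DerGrp.Lattice
import Groth.Agent.L14.TypeR.Borel
import Groth.Agent.L14.AlmostSimple.Torus
import Groth.Agent.L08.Borel.Cartan
import Groth.Agent.L08.Borel.CommTorus
import Groth.Agent.S14754
import Groth.Agent.L25.RedField.WeylInvariant

/-!
# Over an algebraically closed field a torus commuting with the coroot torus and normalised by it lies in the torus
-/

set_option autoImplicit false
universe u

open CategoryTheory CategoryTheory.Limits AlgebraicGeometry MonoidalCategory CartesianMonoidalCategory MonObj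
open Groth.L14.RankOne Groth.L25 Groth.L14.Chart Groth.L14.Chev.Cell

set_option backward.isDefEq.respectTransparency.types false
set_option linter.style.haveILetI false
set_option linter.unusedSectionVars false
set_option maxHeartbeats 1000000

noncomputable section

namespace Groth.L14.DerGrp

section General

variable {S : Scheme.{u}} {M N' : Type} [AddCommGroup M] [AddCommGroup N']

theorem mono_DSmap_surj (φ : M →+ N') (hφ : Function.Surjective φ) : Mono (Red.DSmap S φ) := ⟨fun a b h => by
  refine DSPts.char_injective (MonoidHom.ext fun m => ?_)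
  obtain ⟨x, hx⟩ := hφ m.toAdd
  have h1 := DFunLike.congr_fun (congrArg DSPts.char h) (Multiplicative.ofAdd x)
  rw [SplitSub.char_DSmap, SplitSub.char_DSmap] at h1
  change DSPts.char a (Multiplicative.ofAdd (φ x)) = DSPts.char b (Multiplicative.ofAdd (φ x)) at h1
  rw [hx] at h1
  exact h1⟩

/-- a point killed on `N` comes from the quotient -/
theorem exists_fac_quot (N : AddSubgroup M) {X : Over S} (g : X ⟶ Red.DS S M)
    (hg : g ≫ Red.DSmap S N.subtype = 1) :
    ∃ h : X ⟶ Red.DS S (M ⧸ N), h ≫ Red.DSmap S (QuotientAddGroup.mk' N) = g := by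
  have hker : N ≤ (MonoidHom.toAdditiveRight (DSPts.char g)).ker := fun m hm => by
    have h1 := DFunLike.congr_fun (congrArg DSPts.char hg) (Multiplicative.ofAdd (⟨m, hm⟩ : N))
    rw [SplitSub.char_DSmap, DSPts.char_one] at h1
    exact congrArg Additive.ofMul h1
  let χ : Multiplicative (M ⧸ N) →* Γ(X.left, ⊤) :=
    AddMonoidHom.toMultiplicativeLeft (QuotientAddGroup.lift N (MonoidHom.toAdditiveRight (DSPts.char g)) hker)
  refine ⟨DSPts.pt χ, DSPts.char_injective ?_⟩
  rw [SplitSub.char_DSmap, DSPts.char_pt]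
  exact MonoidHom.ext fun m => rfl

end General

variable {k : Type u} [Field k] [IsAlgClosed k] {G : Over (Spec (CommRingCat.of k))} [GrpObj G] (D : Red.SplitRed G)
  {N : AddSubgroup D.M} (hN : ∀ m : D.M, m ∈ N ↔ ∀ a : D.idx, D.P.coroot a m = 0)

/-- the coroot torus -/
def corTorus (N : AddSubgroup D.M) : Red.DS (Spec (CommRingCat.of k)) (D.M ⧸ N) ⟶ G :=
  Red.DSmap (Spec (CommRingCat.of k)) (QuotientAddGroup.mk' N) ≫ D.split.inv.hom.hom ≫ D.i

include hN in
/-- a torus commuting with the coroot torus lies in the maximal torus -/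
theorem exists_fac_torus {R : Over (Spec (CommRingCat.of k))} [GrpObj R] (hR : Red.IsTorus R) (j : R ⟶ G)
    (f : Red.DS (Spec (CommRingCat.of k)) (D.M ⧸ N) ⟶ R) (hf : f ≫ j = corTorus D N) [IsMonHom j] :
    ∃ g : R ⟶ D.T, g ≫ D.i = j := by
  classical
  haveI := isMonHom_i (D := D)
  haveI : ∀ c, IsMonHom (D.u c) := fun c => (D.rootHom c).1
  haveI := D.reductive.1
  haveI := D.reductive.2.1
  haveI : IsAffine G.left := isAffine_of_isAffineHom G.hom
  haveI : ConnectedSpace G.left := (Groth.L25.RedField.isReductiveOver_of_isReductive D.reductive).2.2.1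
  haveI : Mono D.i := D.maximalTorus.2.1
  haveI := mono_DSmap_surj (S := Spec (CommRingCat.of k)) (QuotientAddGroup.mk' N) (QuotientAddGroup.mk'_surjective N)
  haveI : IsIso D.split.inv.hom.hom :=
    ⟨D.split.hom.hom.hom, congrArg (fun f => f.hom.hom) D.split.inv_hom_id,
      congrArg (fun f => f.hom.hom) D.split.hom_inv_id⟩
  haveI : IsMonHom (Red.DSmap (Spec (CommRingCat.of k)) (QuotientAddGroup.mk' N)) := TorusTorsion.isMonHom_DSmap _ _
  haveI : IsMonHom D.split.inv.hom.hom := inferInstance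
  haveI : IsMonHom (corTorus D N) := inferInstanceAs (IsMonHom (_ ≫ _ ≫ _))
  haveI : Mono (corTorus D N) := inferInstanceAs (Mono (_ ≫ _ ≫ _))
  haveI := free_quot D.P N hN
  haveI := finite_quot (M := D.M) N
  have hT : Red.IsTorus (Red.DS (Spec (CommRingCat.of k)) (D.M ⧸ N)) :=
    TorLift.isTorus_of_iso (TorLift.dsCongr (Spec (CommRingCat.of k))
      (Module.finBasis ℤ (D.M ⧸ N)).equivFun.toAddEquiv).symm (Groth.L08.Borel.isTorus_ds _ _)
  obtain ⟨C, _, c, hc⟩ := Groth.L08.Borel.exists_centralizer_torus (corTorus D N) hT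
  obtain ⟨hcc, -, hsm, hcon, -, hcomm⟩ := Groth.L08.Borel.centralizer_props hT hc
  haveI := hc.1; haveI := hc.2.1; haveI := hsm; haveI := hcc; haveI := hcon
  obtain ⟨-, -, -, -, hTc⟩ := Groth.L08.Borel.torus_props (k := k) D.maximalTorus.2.2.1
  obtain ⟨t, ht⟩ := (hc.2.2 D.T D.i).2 fun X x h => by
    simp only [corTorus, ← Category.assoc]
    rw [← MonObj.mul_comp, ← MonObj.mul_comp, hTc]
  obtain ⟨-, -, -, -, hRc⟩ := Groth.L08.Borel.torus_props (k := k) hR
  obtain ⟨r, hr⟩ := (hc.2.2 R j).2 fun X x h => by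
    rw [← hf, ← Category.assoc, ← MonObj.mul_comp, ← MonObj.mul_comp, hRc]
  have hroot : ∀ a : D.idx, ¬ ∃ v : Red.Ga (Spec (CommRingCat.of k)) ⟶ C, v ≫ c = D.u a := by
    rintro a ⟨v, hv⟩
    let X := Red.DS (Spec (CommRingCat.of k)) (D.M ⧸ N)
    let tt : X ⟶ D.T := Red.DSmap (Spec (CommRingCat.of k)) (QuotientAddGroup.mk' N) ≫ D.split.inv.hom.hom
    obtain ⟨y, hy, hyv⟩ := (D.rootHom a).2.2 X tt (GaPts.ptOfElt 1)
    have h2 := hcomm X ((GaPts.ptOfElt 1 : X ⟶ Red.Ga _) ≫ v) (𝟙 X)
    rw [Category.assoc, hv, Category.id_comp] at h2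
    have h3 : corTorus D N = tt ≫ D.i := (Category.assoc _ _ _).symm
    rw [← h3, ← h2, mul_inv_cancel_right] at hy
    haveI : Mono (D.u a) := by
      haveI := (D.rootHom a).2.1
      exact Over.mono_of_mono_left _
    rw [(cancel_mono (D.u a)).1 hy, GaPts.gaFn_ptOfElt, _root_.mul_one] at hyv
    have h4 : tt ≫ D.split.hom.hom.hom = Red.DSmap (Spec (CommRingCat.of k)) (QuotientAddGroup.mk' N) := by
      simp only [tt, Category.assoc]
      rw [split_inv_hom, Category.comp_id]
    rw [← Category.assoc tt, h4, Luna.SemiRank.gmFn_chi',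
      ← Category.id_comp (Red.DSmap (Spec (CommRingCat.of k)) (QuotientAddGroup.mk' N)), SplitSub.char_DSmap] at hyv
    change _ = DSPts.char (𝟙 X) (Multiplicative.ofAdd (QuotientAddGroup.mk' N (D.P.root a))) at hyv
    have h5 : (zmultiplesHom _ (QuotientAddGroup.mk' N (D.P.root a)) : ℤ →+ D.M ⧸ N) = 0 := by
      refine Groth.Agent.S14754.DSmap_injective (k := k) ?_
      refine DSPts.char_injective (MonoidHom.ext fun n => ?_)
      rw [← Category.id_comp (Red.DSmap _ (zmultiplesHom _ _)), ← Category.id_comp (Red.DSmap _ 0),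
        SplitSub.char_DSmap, SplitSub.char_DSmap]
      show DSPts.char (𝟙 X) (Multiplicative.ofAdd (n.toAdd • QuotientAddGroup.mk' N (D.P.root a))) =
        DSPts.char (𝟙 X) (Multiplicative.ofAdd 0)
      have hu : DSPts.char (𝟙 X) (Multiplicative.ofAdd (-(QuotientAddGroup.mk' N (D.P.root a)))) = 1 := by
        have h := map_mul (DSPts.char (𝟙 X)) (Multiplicative.ofAdd (QuotientAddGroup.mk' N (D.P.root a)))
          (Multiplicative.ofAdd (-(QuotientAddGroup.mk' N (D.P.root a))))
        rw [← hyv, ← ofAdd_add, add_neg_cancel, ofAdd_zero, map_one, _root_.one_mul] at h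
        exact h.symm
      cases n.toAdd with
      | ofNat n =>
        rw [show ((Int.ofNat n) • QuotientAddGroup.mk' N (D.P.root a)) = n • QuotientAddGroup.mk' N (D.P.root a) from
          natCast_zsmul _ _, ofAdd_nsmul, map_pow, ← hyv, one_pow, ofAdd_zero, map_one]
      | negSucc n =>
        rw [negSucc_zsmul, ← smul_neg, ofAdd_nsmul, map_pow, hu, one_pow, ofAdd_zero, map_one]
    have h6 : QuotientAddGroup.mk' N (D.P.root a) = 0 := by simpa using DFunLike.congr_fun h5 1
    have h7 := (hN _).1 ((QuotientAddGroup.eq_zero_iff _).1 h6) a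
    have h8 := D.P.root_coroot_two a
    rw [D.pairing_eq] at h8
    change D.P.coroot a (D.P.root a) = 2 at h8
    omega
  obtain ⟨b⟩ := AlmostSimple.exists_base D
  obtain ⟨φ, hφ⟩ := TypeR.exists_borel_iso (D := D) (h := c) (b := b) (R' := ∅) (e := (Fin.elim0 : Fin 0 → D.idx))
    inferInstance (fun s => by
      haveI := hcon
      have : C.hom.base ⁻¹' {s} = Set.univ := Set.eq_univ_of_forall fun p => Subsingleton.elim _ _
      rw [this]
      exact isConnected_univ) t ht (fun a => iff_of_false (hroot a) (Set.notMem_empty a)) (Set.empty_subset _)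
    ⟨fun i => i.elim0, by rw [Set.range_eq_empty]⟩
  refine ⟨r ≫ φ.inv ≫ fst _ _, ?_⟩
  rw [← hr, ← φ.inv_hom_id_assoc c, hφ]
  simp only [Category.assoc]
  congr 1
  rw [← Category.id_comp (RedSub.borelMap D _), comp_borelMap, List.ofFn_zero, List.prod_nil, _root_.mul_one,
    Category.id_comp]

end Groth.L14.DerGrp
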