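import Groth.Agent.L14.DerGrp.Field
import Groth.Agent.L14.BorelLoc.SplitBC

/-!
# The maximal torus of the derived group
-/

set_option autoImplicit false
universe u

open CategoryTheory CategoryTheory.Limits AlgebraicGeometry MonoidalCategory CartesianMonoidalCategory MonObj
open Groth.L14.RankOne Groth.L25 Groth.L14.Chart Groth.L14.Chev.Cell

set_option backward.isDefEq.respectTransparency.types false
set_option linter.style.haveILetI false
set_option linter.unusedSectionVars false
set_option maxHeartbeats 1000000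

noncomputable section

namespace Groth.L14.DerGrp

variable {S : Scheme.{u}} {G D' : Over S} [GrpObj G] [GrpObj D'] (D : Red.SplitRed G) {N : AddSubgroup D.M}
  (hN : ∀ m : D.M, m ∈ N ↔ ∀ a : D.idx, D.P.coroot a m = 0) (d : D' ⟶ G) [IsMonHom d] [Mono d]
  (F : G ⟶ Red.DS S ↥N) (hFi : D.i ≫ F = D.split.hom.hom.hom ≫ Red.DSmap S N.subtype) (hdF : d ≫ F = 1)

/-- the inclusion of the coroot torus in the torus -/
def corS (N : AddSubgroup D.M) : Red.DS S (D.M ⧸ N) ⟶ D.T :=
  Red.DSmap S (QuotientAddGroup.mk' N) ≫ D.split.inv.hom.hom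

theorem corS_hom : corS D N ≫ D.split.hom.hom.hom = Red.DSmap S (QuotientAddGroup.mk' N) := by
  rw [corS, Category.assoc, split_inv_hom, Category.comp_id]

instance isMonHom_corS : IsMonHom (corS D N) := by
  haveI : IsMonHom (Red.DSmap S (QuotientAddGroup.mk' N)) := TorusTorsion.isMonHom_DSmap _ _
  haveI : IsMonHom D.split.inv.hom.hom := inferInstance
  exact inferInstanceAs (IsMonHom (_ ≫ _))

instance mono_corS : Mono (corS D N) := by
  haveI := mono_DSmap_surj (S := S) (QuotientAddGroup.mk' N) (QuotientAddGroup.mk'_surjective N)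
  haveI : IsIso D.split.inv.hom.hom :=
    ⟨D.split.hom.hom.hom, congrArg (fun f => f.hom.hom) D.split.inv_hom_id,
      congrArg (fun f => f.hom.hom) D.split.hom_inv_id⟩
  exact inferInstanceAs (Mono (_ ≫ _))

include hFi in
theorem corS_comp : (corS D N ≫ D.i) ≫ F = 1 := by
  rw [Category.assoc, hFi, ← Category.assoc, corS_hom, TorusTorsion.DSmap_comp,
    show (QuotientAddGroup.mk' N).comp N.subtype = 0 from
      AddMonoidHom.ext fun x => (QuotientAddGroup.eq_zero_iff _).2 x.2, Groth.L08.Borel.DSmap_zero']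

/-- a lift of a monomorphism of groups is a homomorphism -/
theorem isMonHom_of_comp {X : Over S} [GrpObj X] (f : X ⟶ D') (g : X ⟶ G) [IsMonHom g] (h : f ≫ d = g) :
    IsMonHom f :=
  Bridge.isMonHom_of_mul f fun Y x y => (cancel_mono d).1 (by
    rw [Category.assoc, h, MonObj.mul_comp x y g, MonObj.mul_comp (x ≫ f) (y ≫ f) d, Category.assoc, Category.assoc, h])

theorem pullback_map_one {V : Scheme.{u}} (j : V ⟶ S) {Y : Over V} (y : Y ⟶ Red.bc j D') (φ : D' ⟶ Red.DS S ↥N)
    (hφ : φ = 1) : y ≫ (Over.pullback j).map φ ≫ (SplitSub.bcDS j).hom = 1 := by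
  refine DSPts.char_injective ?_
  rw [← Category.assoc, SplitSub.char_bcDS, Groth.L14.RankOne.toBase_comp_map, hφ, MonObj.comp_one,
    DSPts.char_one, DSPts.char_one]

include hN hFi hdF in
/-- the coroot torus is a maximal torus of the derived group -/
theorem isMaximalTorus_lift (i' : Red.DS S (D.M ⧸ N) ⟶ D') (hi' : i' ≫ d = corS D N ≫ D.i) :
    Red.IsMaximalTorus i' := by
  haveI := isMonHom_i (D := D)
  haveI : Mono D.i := D.maximalTorus.2.1
  haveI : IsMonHom (corS D N ≫ D.i) := inferInstance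
  haveI : IsMonHom i' := isMonHom_of_comp d i' _ hi'
  haveI : Mono (i' ≫ d) := by rw [hi']; infer_instance
  haveI : Mono i' := mono_of_mono i' d
  haveI := free_quot D.P N hN
  haveI := finite_quot (M := D.M) N
  refine ⟨inferInstance, inferInstance, TorLift.isTorus_of_iso (TorLift.dsCongr S
    (Module.finBasis ℤ (D.M ⧸ N)).equivFun.toAddEquiv).symm (Groth.L08.Borel.isTorus_ds _ _),
    fun s R _ j _ _ f hR hf => ?_⟩
  let p := Red.geomPt s
  haveI : IsMonHom ((Over.pullback p).map d) := Groth.L25.MonoClosed.isMonHom_pullbackMap _ _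
  haveI : IsMonHom (j ≫ (Over.pullback p).map d) := inferInstance
  haveI : Mono ((Over.pullback p).map i') := (Over.pullback p).map_mono i'
  haveI : Mono ((Over.pullback p).map d) := (Over.pullback p).map_mono d
  let pD := Red.DSmap (Spec (CommRingCat.of (AlgebraicClosure (S.residueField s)))) (QuotientAddGroup.mk' N)
  let eI := (SplitSub.bcDS (N := D.M) p).inv ≫ (Over.pullback p).map D.split.inv.hom.hom
  have hcor : (SplitSub.bcDS p).hom ≫ pD ≫ eI ≫ (Over.pullback p).map D.i =
      (Over.pullback p).map (corS D N ≫ D.i) := by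
    simp only [pD, eI, Category.assoc]
    rw [← Category.assoc, ← Groth.L08.Borel.bc_DSmap]
    simp only [Category.assoc, Iso.hom_inv_id_assoc, corS, Functor.map_comp]
  have hf' : ((SplitSub.bcDS p).inv ≫ f) ≫ (j ≫ (Over.pullback p).map d) = pD ≫ eI ≫ (Over.pullback p).map D.i := by
    rw [Category.assoc, reassoc_of% hf, ← Functor.map_comp, hi', ← hcor, Iso.inv_hom_id_assoc]
  have hx : ∃ g : R ⟶ Red.bc p D.T, g ≫ (Over.pullback p).map D.i = j ≫ (Over.pullback p).map d :=
    exists_fac_torus (BorelLoc.splitBC p D) hN hR (j ≫ (Over.pullback p).map d) ((SplitSub.bcDS p).inv ≫ f) hf'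
  obtain ⟨g, hg⟩ := hx
  have hg' : (g ≫ (Over.pullback p).map D.split.hom.hom.hom ≫ (SplitSub.bcDS p).hom) ≫
      Red.DSmap _ N.subtype = 1 := by
    simp only [Category.assoc]
    rw [← Groth.L08.Borel.bc_DSmap, ← Functor.map_comp_assoc, ← hFi, Functor.map_comp_assoc, reassoc_of% hg,
      ← Functor.map_comp_assoc]
    exact pullback_map_one D p j _ hdF
  obtain ⟨h, hh⟩ := exists_fac_quot N _ hg'
  let h' : R ⟶ Red.bc p (Red.DS S (D.M ⧸ N)) := h ≫ (SplitSub.bcDS p).inv
  have hh' : h' ≫ (Over.pullback p).map i' = j := by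
    rw [← cancel_mono ((Over.pullback p).map d), Category.assoc, ← Functor.map_comp, hi', ← hcor, ← hg]
    simp only [h', Category.assoc, Iso.inv_hom_id_assoc, pD, eI]
    rw [reassoc_of% hh]
    simp only [Iso.hom_inv_id_assoc]
    rw [← Functor.map_comp_assoc, split_hom_inv, CategoryTheory.Functor.map_id, Category.id_comp]
  refine ⟨h', (cancel_mono ((Over.pullback p).map i')).1 ?_, (cancel_mono j).1 ?_⟩
  · rw [Category.assoc, hh', hf, Category.id_comp]
  · rw [Category.assoc, hf, hh', Category.id_comp]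

end Groth.L14.DerGrp
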