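import Groth.Prelude.Def_Red
import Mathlib.LinearAlgebra.RootSystem.Finite.Nondegenerate
import Mathlib.LinearAlgebra.FreeModule.PID
import Mathlib.LinearAlgebra.Dual.Lemmas
import Mathlib.LinearAlgebra.PerfectPairing.Basic

/-!
# The root datum of the derived group
-/

set_option autoImplicit false
set_option linter.unusedSectionVars false
set_option linter.style.haveILetI false
set_option backward.isDefEq.respectTransparency.types false

noncomputable section

namespace Groth.L14.DerGrp

variable {ι M : Type} [AddCommGroup M] [Module.Finite ℤ M] [Module.Free ℤ M] [Fintype ι]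
  (P : RootPairing ι ℤ M (Module.Dual ℤ M)) (hev : P.toLinearMap = Module.Dual.eval ℤ M)
  (N : AddSubgroup M) (hN : ∀ m : M, m ∈ N ↔ ∀ a : ι, P.coroot a m = 0)

include hN in
theorem isTorsionFree_quot : Module.IsTorsionFree ℤ (M ⧸ N) := by
  refine Module.isTorsionFree_iff_smul_eq_zero.2 fun k x => ?_
  obtain ⟨x, rfl⟩ := QuotientAddGroup.mk'_surjective N x
  intro h
  rcases eq_or_ne k 0 with hk | hk
  · exact Or.inl hk
  refine Or.inr ((QuotientAddGroup.eq_zero_iff x).2 ((hN x).2 fun a => ?_))
  rw [← map_zsmul] at h
  have h1 := (hN _).1 ((QuotientAddGroup.eq_zero_iff _).1 h) a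
  rw [map_zsmul, smul_eq_mul] at h1
  exact (mul_eq_zero.1 h1).resolve_left hk

theorem finite_quot : Module.Finite ℤ (M ⧸ N) :=
  Module.Finite.of_surjective (QuotientAddGroup.mk' N).toIntLinearMap (QuotientAddGroup.mk'_surjective N)

include hN in
theorem free_quot : Module.Free ℤ (M ⧸ N) := by
  haveI := isTorsionFree_quot P N hN
  haveI := finite_quot (M := M) N
  exact Module.free_of_finite_type_torsion_free'

include hev hN in
/-- two roots agreeing on all coroots are equal -/
theorem root_injective_quot : Function.Injective fun a : ι => (QuotientAddGroup.mk' N (P.root a) : M ⧸ N) := by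
  intro a b h
  have hmem : P.root a - P.root b ∈ N := by
    rw [← QuotientAddGroup.eq_zero_iff]
    show QuotientAddGroup.mk' N (P.root a - P.root b) = 0
    rw [map_sub, sub_eq_zero]
    exact h
  refine P.root.injective (sub_eq_zero.1 (P.eq_zero_of_mem_rootSpan_of_rootForm_self_eq_zero
    (sub_mem (Submodule.subset_span ⟨a, rfl⟩) (Submodule.subset_span ⟨b, rfl⟩)) ?_))
  rw [P.rootForm_apply_apply]
  refine Finset.sum_eq_zero fun c _ => ?_
  have h0 : P.coroot' c (P.root a - P.root b) = 0 := by
    show P.toLinearMap.flip (P.coroot c) (P.root a - P.root b) = 0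
    rw [hev]
    exact (hN _).1 hmem c
  rw [h0, mul_zero]

include hN in
theorem coroot_vanish (a : ι) : N ≤ (P.coroot a).toAddMonoidHom.ker := fun m hm => (hN m).1 hm a

/-- the coroot on the quotient lattice -/
def corootQ (a : ι) : Module.Dual ℤ (M ⧸ N) :=
  (QuotientAddGroup.lift N (P.coroot a).toAddMonoidHom (coroot_vanish P N hN a)).toIntLinearMap

theorem corootQ_mk (a : ι) (m : M) : corootQ P N hN a (QuotientAddGroup.mk' N m) = P.coroot a m := rfl

theorem corootQ_injective : Function.Injective (corootQ P N hN) := fun a b h =>
  P.coroot.injective (LinearMap.ext fun m => LinearMap.congr_fun h (QuotientAddGroup.mk' N m))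

/-- the root datum on the quotient lattice -/
def quotPairing : RootPairing ι ℤ (M ⧸ N) (Module.Dual ℤ (M ⧸ N)) :=
  letI := free_quot P N hN
  letI := finite_quot (M := M) N
  { toLinearMap := Module.Dual.eval ℤ (M ⧸ N)
    root := ⟨fun a => QuotientAddGroup.mk' N (P.root a), root_injective_quot P hev N hN⟩
    coroot := ⟨corootQ P N hN, corootQ_injective P N hN⟩
    root_coroot_two := fun a => by
      show P.coroot a (P.root a) = 2
      have := P.root_coroot_two a
      rw [hev] at this
      exact this
    reflectionPerm := P.reflectionPerm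
    reflectionPerm_root := fun a b => by
      show QuotientAddGroup.mk' N (P.root b) - P.coroot a (P.root b) • QuotientAddGroup.mk' N (P.root a) =
        QuotientAddGroup.mk' N (P.root (P.reflectionPerm a b))
      have := P.reflectionPerm_root a b
      rw [hev] at this
      rw [← this, map_sub, map_zsmul]
      rfl
    reflectionPerm_coroot := fun a b => by
      refine LinearMap.ext fun x => ?_
      obtain ⟨x, rfl⟩ := QuotientAddGroup.mk'_surjective N x
      show P.coroot b x - P.coroot b (P.root a) * P.coroot a x = P.coroot (P.reflectionPerm a b) x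
      have := P.reflectionPerm_coroot a b
      rw [hev] at this
      rw [← this]
      rfl }

theorem quotPairing_root (a : ι) : (quotPairing P hev N hN).root a = QuotientAddGroup.mk' N (P.root a) := rfl

theorem quotPairing_reflection (a : ι) (m : M) :
    (quotPairing P hev N hN).reflection a (QuotientAddGroup.mk' N m) = QuotientAddGroup.mk' N (P.reflection a m) := by
  rw [RootPairing.reflection_apply, RootPairing.reflection_apply]
  show QuotientAddGroup.mk' N m - P.coroot a m • QuotientAddGroup.mk' N (P.root a) = _
  rw [map_sub, map_zsmul]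
  congr 1
  show _ = P.toLinearMap.flip (P.coroot a) m • _
  rw [hev]
  rfl

end Groth.L14.DerGrp
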