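import Groth.Agent.L14.Coroot.Kernel
import Groth.Agent.L14.AlmostSimple.Torus
import Groth.Agent.S5572
import Groth.Agent.L14.DerGrp.Lattice

/-!
# The derived group is the kernel of the map to the quotient of the torus by the coroot torus
-/

set_option autoImplicit false
universe u

open CategoryTheory CategoryTheory.Limits AlgebraicGeometry MonoidalCategory CartesianMonoidalCategory MonObj
open Groth.L14.RankOne Groth.L25 Groth.L14.Chart Groth.L14.Chev.Cell

set_option backward.isDefEq.respectTransparency.types false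
set_option linter.style.haveILetI false
set_option linter.unusedSectionVars false
set_option maxHeartbeats 1000000

noncomputable section

namespace Groth.L14.DerGrp

variable {S : Scheme.{u}} {G : Over S} [GrpObj G] (D : Red.SplitRed G) {N : AddSubgroup D.M}
  (hN : ∀ m : D.M, m ∈ N ↔ ∀ a : D.idx, D.P.coroot a m = 0) (F : G ⟶ Red.DS S ↥N) [IsMonHom F]
  (hFi : D.i ≫ F = D.split.hom.hom.hom ≫ Red.DSmap S N.subtype)

theorem DS_comm {X : Over S} {M : Type} [AddCommGroup M] (a b : X ⟶ Red.DS S M) : a * b = b * a :=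
  DSPts.char_injective (MonoidHom.ext fun m => by
    rw [DSPts.char_mul, DSPts.char_mul, MonoidHom.mul_apply, MonoidHom.mul_apply, mul_comm])

/-- root groups are killed -/
theorem root_comp (a : D.idx) {X : Over S} (x : X ⟶ Red.Ga S) : (x ≫ D.u a) ≫ F = 1 := by
  rcases isEmpty_or_nonempty S with h | h
  · exact (subsingleton_hom _ _).elim _ _
  · obtain ⟨b⟩ := AlmostSimple.exists_base D
    have hA : ∀ (X : Over S) (p q : X ⟶ Red.DS S ↥N), p * q = q * p := fun X p q => DS_comm (M := ↥N) p q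
    have key : ∀ (A : Over S) [GrpObj A] (φ : G ⟶ A) [IsMonHom φ],
        (∀ (X : Over S) (p q : X ⟶ A), p * q = q * p) → (x ≫ D.u a) ≫ φ = 1 :=
      fun A _ φ _ h => Coroot.root_comp_eq_one (D := D) b φ h a x
    exact key (Red.DS S ↥N) F hA

include hFi in
/-- on the big cell the map reads off the torus -/
theorem cellMap_comp {n m : ℕ} (eneg : Fin n → D.idx) (epos : Fin m → D.idx) :
    RedSub.cellMap D eneg epos ≫ F = Coroot.fN D N n m := by
  let Φ : (cellSpace D n m ⟶ G) →* (cellSpace D n m ⟶ Red.DS S ↥N) :=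
    MonoidHom.mk' (fun p => p ≫ F) fun p q => MonObj.mul_comp p q F
  have hroots : ∀ {k : ℕ} (e : Fin k → D.idx) (q : cellSpace D n m ⟶ RedSub.pow (Red.Ga S) k),
      Φ (List.ofFn fun i => (q ≫ proj _ k i) ≫ D.u (e i)).prod = 1 := fun e q => by
    rw [map_list_prod]
    refine List.prod_eq_one fun g hg => ?_
    obtain ⟨p, hp, rfl⟩ := List.mem_map.1 hg
    obtain ⟨i, rfl⟩ := List.mem_ofFn.1 hp
    exact root_comp D F _ _
  show Φ (RedSub.cellMap D eneg epos) = _
  rw [← Category.id_comp (RedSub.cellMap D eneg epos), comp_cellMap, map_mul, map_mul, hroots, hroots,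
    _root_.one_mul, _root_.mul_one]
  show (((𝟙 _) ≫ snd _ _ ≫ fst _ _) ≫ D.i) ≫ F = _
  rw [Category.assoc, hFi]
  simp only [Coroot.fN, Category.id_comp, Category.assoc]

include hN hFi in
/-- homomorphisms to commutative groups kill the kernel -/
theorem comp_eq_one {A : Over S} [GrpObj A] (φ : G ⟶ A) [IsMonHom φ]
    (hA : ∀ (X : Over S) (p q : X ⟶ A), p * q = q * p) {X : Over S} (x : X ⟶ G) (hx : x ≫ F = 1) : x ≫ φ = 1 := by
  rcases isEmpty_or_nonempty S with h | h
  · exact (subsingleton_hom _ _).elim _ _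
  obtain ⟨b⟩ := AlmostSimple.exists_base D
  obtain ⟨n, eneg, hneg⟩ := exists_enum (D := D) (RedSub.negRoots D.P b)
  obtain ⟨m, epos, hpos⟩ := exists_enum (D := D) (RedSub.posRoots D.P b)
  obtain ⟨π, -, -, hπ, -, -⟩ := Coroot.exists_retract D N hN
  have h := Coroot.comp_eq_sigma b φ hA hneg hpos hN F (cellMap_comp D F hFi eneg epos) π hπ
  haveI : IsMonHom (Red.DSmap S π) := TorusTorsion.isMonHom_DSmap S _
  haveI := isMonHom_i (D := D)
  haveI : IsMonHom D.split.inv.hom.hom := inferInstance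
  rw [h, ← Category.assoc, hx, MonObj.one_comp]

include hN hFi in
/-- the derived group is the kernel of `F` -/
theorem isKernel {D' : Over S} [GrpObj D'] (d : D' ⟶ G) [IsMonHom d]
    (hker : ∃ (C : Over S) (_ : GrpObj C) (f₀ : G ⟶ C), IsMonHom f₀ ∧ (∀ (X : Over S) (a b : X ⟶ C), a * b = b * a) ∧
      AlgGrp.IsKernel d f₀)
    (hkill : RedSub.KilledByCommutative d) : AlgGrp.IsKernel d F := by
  obtain ⟨C, _, f₀, hf₀, hC, hk⟩ := hker
  haveI := hf₀
  have hdF : d ≫ F = 1 := hkill (Red.DS S ↥N) F fun X p q => DS_comm p q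
  haveI : Mono η[C] := ⟨fun p q _ => toUnit_unique p q⟩
  haveI : Mono d := hk.mono_fst_of_mono
  have hw : d ≫ F = toUnit D' ≫ η[Red.DS S ↥N] := by
    rw [hdF, MonObj.one_eq_one, MonObj.comp_one]
  have hfac : ∀ (X : Over S) (x : X ⟶ G) (t : X ⟶ 𝟙_ (Over S)), x ≫ F = t ≫ η[Red.DS S ↥N] →
      ∃ l : X ⟶ D', l ≫ d = x := fun X x t hx => by
    have h1 : x ≫ F = 1 := by rw [hx, MonObj.one_eq_one, MonObj.comp_one]
    have h2 : x ≫ f₀ = toUnit _ ≫ η[C] := by
      rw [comp_eq_one D hN F hFi f₀ hC x h1, MonObj.one_eq_one, MonObj.comp_one]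
    exact ⟨hk.lift x (toUnit _) h2, hk.lift_fst _ _ _⟩
  refine IsPullback.of_isLimit' ⟨hw⟩ (Limits.PullbackCone.IsLimit.mk _
    (fun s => (hfac _ s.fst s.snd s.condition).choose)
    (fun s => (hfac _ s.fst s.snd s.condition).choose_spec) (fun s => toUnit_unique _ _) fun s l hl _ => ?_)
  exact (cancel_mono d).1 (hl.trans (hfac _ s.fst s.snd s.condition).choose_spec.symm)

end Groth.L14.DerGrp
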