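import Groth.Agent.L22.AffineDim
import Mathlib.RingTheory.NoetherNormalization
import Mathlib.RingTheory.TensorProduct.MvPolynomial
import Mathlib.RingTheory.Flat.Basic
import Mathlib.AlgebraicGeometry.Pullbacks
import Mathlib.AlgebraicGeometry.Morphisms.FiniteType
import Mathlib.CategoryTheory.Monoidal.Cartesian.Over

/-!
# The dimension of a product of affine schemes of finite type over a field
-/

set_option autoImplicit false
set_option linter.style.haveILetI false
set_option backward.isDefEq.respectTransparency.types false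

universe u

open CategoryTheory CategoryTheory.Limits MonoidalCategory AlgebraicGeometry TensorProduct

noncomputable section

namespace Groth.L14.DerGrp

variable {k : Type u} [Field k]

theorem isIntegralElem_map {R S R' S' : Type*} [CommRing R] [CommRing S] [CommRing R'] [CommRing S'] {f : R →+* S}
    {f' : R' →+* S'} (a : R →+* R') (b : S →+* S') (h : f'.comp a = b.comp f) {x : S} (hx : f.IsIntegralElem x) :
    f'.IsIntegralElem (b x) := by
  obtain ⟨p, hp, hpx⟩ := hx
  refine ⟨p.map a, hp.map a, ?_⟩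
  rw [Polynomial.eval₂_map, h, ← Polynomial.hom_eval₂, hpx, map_zero]

/-- dimension of a tensor product -/
theorem ringKrullDim_tensor (A B : Type u) [CommRing A] [CommRing B] [Algebra k A] [Algebra k B]
    [Algebra.FiniteType k A] [Algebra.FiniteType k B] [Nontrivial A] [Nontrivial B] :
    ∃ d e : ℕ, ringKrullDim A = d ∧ ringKrullDim B = e ∧ ringKrullDim (A ⊗[k] B) = (d + e : ℕ) := by
  obtain ⟨d, g, hg, hgf⟩ := exists_finite_inj_algHom_of_fg k A
  obtain ⟨e, h, hh, hhf⟩ := exists_finite_inj_algHom_of_fg k B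
  have hdim : ∀ (C : Type u) [CommRing C] [Algebra k C] (n : ℕ) (c : MvPolynomial (Fin n) k →ₐ[k] C),
      Function.Injective c → c.toRingHom.IsIntegral → ringKrullDim C = n := fun C _ _ n c hc hci => by
    letI := c.toRingHom.toAlgebra
    haveI : Algebra.IsIntegral (MvPolynomial (Fin n) k) C := ⟨hci⟩
    rw [Groth.L22.AffineDim.ringKrullDim_eq_of_isIntegral hc, MvPolynomial.ringKrullDim_of_isNoetherianRing,
      ringKrullDim_eq_zero_of_field, zero_add, Nat.card_fin]
  refine ⟨d, e, hdim A d g hg (RingHom.Finite.to_isIntegral hgf), hdim B e h hh (RingHom.Finite.to_isIntegral hhf), ?_⟩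
  let f := Algebra.TensorProduct.map g h
  have hf : Function.Injective f := by
    have e1 : f.toLinearMap = TensorProduct.map g.toLinearMap h.toLinearMap := rfl
    show Function.Injective f.toLinearMap
    rw [e1]
    exact TensorProduct.map_injective_of_flat_flat g.toLinearMap h.toLinearMap hg hh
  have hfi : f.toRingHom.IsIntegral := fun z => by
    induction z using TensorProduct.induction_on with
    | zero => exact RingHom.isIntegralElem_zero f.toRingHom
    | add x y hx hy => exact RingHom.IsIntegralElem.add f.toRingHom hx hy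
    | tmul a b =>
      rw [show a ⊗ₜ[k] b = (a ⊗ₜ[k] (1 : B)) * ((1 : A) ⊗ₜ[k] b) by
        rw [Algebra.TensorProduct.tmul_mul_tmul, mul_one, one_mul]]
      refine RingHom.IsIntegralElem.mul f.toRingHom ?_ ?_
      · exact isIntegralElem_map Algebra.TensorProduct.includeLeftRingHom
          (Algebra.TensorProduct.includeLeftRingHom : A →+* A ⊗[k] B) (RingHom.ext fun x => by
            show f (x ⊗ₜ 1) = g x ⊗ₜ 1
            simp [f]) (RingHom.Finite.to_isIntegral hgf a)
      · exact isIntegralElem_map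
          (Algebra.TensorProduct.includeRight : MvPolynomial (Fin e) k →ₐ[k] _).toRingHom
          (Algebra.TensorProduct.includeRight : B →ₐ[k] A ⊗[k] B).toRingHom (RingHom.ext fun x => by
            show f (1 ⊗ₜ x) = 1 ⊗ₜ h x
            simp [f]) (RingHom.Finite.to_isIntegral hhf b)
  letI := f.toRingHom.toAlgebra
  haveI : Algebra.IsIntegral (MvPolynomial (Fin d) k ⊗[k] MvPolynomial (Fin e) k) (A ⊗[k] B) := ⟨hfi⟩
  rw [Groth.L22.AffineDim.ringKrullDim_eq_of_isIntegral hf]
  have e2 := (MvPolynomial.tensorEquivSum k (Fin d) (Fin e) k)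
  rw [ringKrullDim_eq_of_ringEquiv e2.toRingEquiv, MvPolynomial.ringKrullDim_of_isNoetherianRing,
    ringKrullDim_eq_zero_of_field, zero_add, Nat.card_sum, Nat.card_fin, Nat.card_fin]

theorem exists_spec (X : Over (Spec (CommRingCat.of k))) [IsAffine X.left] [LocallyOfFiniteType X.hom]
    [Nonempty X.left] : ∃ (A : Type u) (_ : CommRing A) (_ : Algebra k A) (_ : Algebra.FiniteType k A)
      (_ : Nontrivial A), Nonempty (X ≅ Over.mk (Spec.map (CommRingCat.ofHom (algebraMap k A)))) := by
  let φ : CommRingCat.of k ⟶ Γ(X.left, ⊤) := Spec.preimage (X.left.isoSpec.inv ≫ X.hom)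
  have hφ : Spec.map φ = X.left.isoSpec.inv ≫ X.hom := Spec.map_preimage _
  letI : Algebra k Γ(X.left, ⊤) := φ.hom.toAlgebra
  haveI : Algebra.FiniteType k Γ(X.left, ⊤) :=
    (HasRingHomProperty.Spec_iff (P := @LocallyOfFiniteType)).1 (hφ ▸ inferInstance : LocallyOfFiniteType (Spec.map φ))
  haveI : Nonempty (Spec Γ(X.left, ⊤)) := X.left.isoSpec.hom.homeomorph.symm.surjective.nonempty
  haveI : Nontrivial Γ(X.left, ⊤) := PrimeSpectrum.nonempty_iff_nontrivial.1 ‹_›
  refine ⟨Γ(X.left, ⊤), inferInstance, inferInstance, inferInstance, inferInstance, ⟨Over.isoMk X.left.isoSpec ?_⟩⟩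
  show X.left.isoSpec.hom ≫ Spec.map φ = X.hom
  rw [hφ, Iso.hom_inv_id_assoc]

/-- dimension of a product -/
theorem dim_tensor (X Y : Over (Spec (CommRingCat.of k))) [IsAffine X.left] [IsAffine Y.left]
    [LocallyOfFiniteType X.hom] [LocallyOfFiniteType Y.hom] [Nonempty X.left] [Nonempty Y.left] :
    ∃ d e : ℕ, topologicalKrullDim ↥X.left = d ∧ topologicalKrullDim ↥Y.left = e ∧
      topologicalKrullDim ↥(X ⊗ Y).left = (d + e : ℕ) := by
  obtain ⟨A, _, _, _, _, ⟨eA⟩⟩ := exists_spec X
  obtain ⟨B, _, _, _, _, ⟨eB⟩⟩ := exists_spec Y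
  obtain ⟨d, e, hA, hB, hAB⟩ := ringKrullDim_tensor (k := k) A B
  refine ⟨d, e, ?_, ?_, ?_⟩
  · rw [← hA, ← PrimeSpectrum.topologicalKrullDim_eq_ringKrullDim]
    exact IsHomeomorph.topologicalKrullDim_eq _ ((Over.forget _).mapIso eA).hom.homeomorph.isHomeomorph
  · rw [← hB, ← PrimeSpectrum.topologicalKrullDim_eq_ringKrullDim]
    exact IsHomeomorph.topologicalKrullDim_eq _ ((Over.forget _).mapIso eB).hom.homeomorph.isHomeomorph
  · rw [← hAB, ← PrimeSpectrum.topologicalKrullDim_eq_ringKrullDim]
    exact IsHomeomorph.topologicalKrullDim_eq _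
      ((Over.forget _).mapIso (eA ⊗ᵢ eB) ≪≫ pullbackSpecIso k A B).hom.homeomorph.isHomeomorph

end Groth.L14.DerGrp
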