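import Groth.Agent.L14.DerGrp.Derived
import Groth.Agent.L14.DerGrp.Torus
import Groth.Agent.L14.DerGrp.DimProd
import Groth.Agent.L08.Borel.CartanNhd
import Groth.Agent.S8074

/-!
# The splitting of the derived group
-/

set_option autoImplicit false
universe u

open CategoryTheory CategoryTheory.Limits AlgebraicGeometry MonoidalCategory CartesianMonoidalCategory MonObj
open Groth.L14.RankOne Groth.L25 Groth.L14.Chart Groth.L14.Chev.Cell

set_option backward.isDefEq.respectTransparency.types false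
set_option linter.style.haveILetI false
set_option linter.unusedSectionVars false
set_option maxHeartbeats 1000000

noncomputable section

namespace Groth.L14.DerGrp

variable {S : Scheme.{u}} {G D' : Over S} [GrpObj G] [GrpObj D'] (D : Red.SplitRed G) {N : AddSubgroup D.M}
  (d : D' ⟶ G) [IsMonHom d] (F : G ⟶ Red.DS S ↥N) [IsMonHom F]
  (hFi : D.i ≫ F = D.split.hom.hom.hom ≫ Red.DSmap S N.subtype) (hk : AlgGrp.IsKernel d F)

include hk in
theorem comp_F : d ≫ F = 1 := by
  rw [hk.w, MonObj.one_eq_one, MonObj.comp_one]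

include hk in
theorem mono_d : Mono d := by
  haveI : Mono η[Red.DS S ↥N] := ⟨fun p q _ => toUnit_unique p q⟩
  exact hk.mono_fst_of_mono

include hk in
theorem exists_lift {X : Over S} (x : X ⟶ G) (hx : x ≫ F = 1) : ∃ l : X ⟶ D', l ≫ d = x :=
  ⟨hk.lift x (toUnit _) (by rw [hx, MonObj.one_eq_one, MonObj.comp_one]), hk.lift_fst _ _ _⟩

include hk in
theorem isNormal_d : AlgGrp.IsNormalHom d := fun T g n => by
  obtain ⟨l, hl⟩ := exists_lift D d F hk (g * (n ≫ d) * g⁻¹) (by
    let Φ : (T ⟶ G) →* (T ⟶ Red.DS S ↥N) := MonoidHom.mk' (fun p => p ≫ F) fun p q => MonObj.mul_comp p q F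
    show Φ (g * (n ≫ d) * g⁻¹) = 1
    rw [map_mul, map_mul, map_inv, show Φ (n ≫ d) = 1 from (by
      show (n ≫ d) ≫ F = 1
      rw [Category.assoc, comp_F D d F hk, MonObj.comp_one]), _root_.mul_one, mul_inv_cancel])
  exact ⟨l, hl.symm⟩

include hk in
theorem isClosedImmersion_d : IsClosedImmersion d.left := by
  haveI : IsAffineHom (Red.DS S ↥N).hom := by
    haveI : IsAffine (Red.diag (ULift.{u} ℤ) ↥N).left := inferInstanceAs (IsAffine (Spec _))
    haveI : IsAffineHom (Red.diag (ULift.{u} ℤ) ↥N).hom := isAffineHom_of_isAffine _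
    exact MorphismProperty.pullback_snd _ _ ‹IsAffineHom (Red.diag (ULift.{u} ℤ) ↥N).hom›
  haveI : IsClosedImmersion η[Red.DS S ↥N].left := by
    haveI : IsClosedImmersion (η[Red.DS S ↥N].left ≫ (Red.DS S ↥N).hom) := by
      rw [Over.w]
      exact inferInstanceAs (IsClosedImmersion (𝟙 S))
    exact IsClosedImmersion.of_comp _ (Red.DS S ↥N).hom
  exact MorphismProperty.of_isPullback (P := @IsClosedImmersion) (hk.map (Over.forget S)).flip ‹_›

variable (hsm : Smooth D'.hom) (hconn : RedSub.HasConnectedFibres D')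

include D hk hsm hconn in
/-- the derived group is reductive -/
theorem isReductive_derived : Red.IsReductive D' := by
  haveI := isClosedImmersion_d D d F hk
  haveI := D.reductive.1
  haveI := hsm
  refine ⟨by rw [← Over.w d]; infer_instance, hsm, fun s => ?_⟩
  haveI : IsMonHom ((Over.pullback (Red.geomPt s)).map d) := Groth.L25.MonoClosed.isMonHom_pullbackMap _ _
  haveI : IsClosedImmersion ((Over.pullback (Red.geomPt s)).map d).left :=
    MorphismProperty.overPullbackMap (P := @IsClosedImmersion) _ _ inferInstance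
  haveI : Smooth (Red.geomFibre s D').hom := MorphismProperty.pullback_snd _ _ hsm
  haveI := Groth.L08.Borel.connectedSpace_bc_point D' hconn (Red.geomPt s)
  exact Groth.L25.RedField.isReductiveOver_of_isReductive (Groth.Agent.S8074.result _ _
    (Groth.L14.Splitting.isReductive_bc D.reductive (Red.geomPt s)) _ ((Over.pullback (Red.geomPt s)).map d)
    inferInstance (Groth.L25.GenWords.isNormalHom_bc (Red.geomPt s) d (isNormal_d D d F hk)))

/-- the section of the quotient map -/
def sect (π : D.M →+ N) : Red.DS S ↥N ⟶ G := (Red.DSmap S π ≫ D.split.inv.hom.hom) ≫ D.i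

include hFi in
theorem sect_comp {π : D.M →+ N} (hπ : ∀ x : N, π x = x) : sect D π ≫ F = 𝟙 _ := by
  simp only [sect, Category.assoc, hFi]
  rw [← Category.assoc D.split.inv.hom.hom, split_inv_hom, Category.id_comp, TorusTorsion.DSmap_comp,
    show π.comp N.subtype = AddMonoidHom.id N from AddMonoidHom.ext hπ, TorusTorsion.DSmap_id]

include hFi hk in
/-- the group is the product of the derived group and a torus, as a scheme -/
theorem nonempty_prod_iso {π : D.M →+ N} (hπ : ∀ x : N, π x = x) : Nonempty (D' ⊗ Red.DS S ↥N ≅ G) := by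
  haveI := mono_d D d F hk
  have hs : (𝟙 G * ((𝟙 G ≫ F) ≫ sect D π)⁻¹) ≫ F = 1 := by
    let Φ : (G ⟶ G) →* (G ⟶ Red.DS S ↥N) := MonoidHom.mk' (fun p => p ≫ F) fun p q => MonObj.mul_comp p q F
    show Φ (𝟙 G * ((𝟙 G ≫ F) ≫ sect D π)⁻¹) = 1
    rw [map_mul, map_inv]
    show (𝟙 G ≫ F) * (((𝟙 G ≫ F) ≫ sect D π) ≫ F)⁻¹ = 1
    rw [Category.assoc (𝟙 G ≫ F), sect_comp D F hFi hπ, Category.comp_id, mul_inv_cancel]
  obtain ⟨r, hr⟩ := exists_lift D d F hk _ hs
  let f : D' ⊗ Red.DS S ↥N ⟶ G := (fst _ _ ≫ d) * (snd _ _ ≫ sect D π)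
  have hfF : f ≫ F = snd _ _ := by
    rw [show f ≫ F = ((fst _ _ ≫ d) ≫ F) * ((snd _ _ ≫ sect D π) ≫ F) from MonObj.mul_comp _ _ F,
      Category.assoc, comp_F D d F hk, MonObj.comp_one, _root_.one_mul, Category.assoc, sect_comp D F hFi hπ,
      Category.comp_id]
  refine ⟨⟨f, lift r F, ?_, ?_⟩⟩
  · refine CartesianMonoidalCategory.hom_ext _ _ ?_ ?_
    · rw [Category.assoc, lift_fst, Category.id_comp, ← cancel_mono d, Category.assoc, hr, Category.id_comp,
        MonObj.comp_mul, GrpObj.comp_inv, Category.comp_id, ← Category.assoc, hfF]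
      exact mul_inv_cancel_right _ _
    · rw [Category.assoc, lift_snd, hfF, Category.id_comp]
  · rw [MonObj.comp_mul, lift_fst_assoc, lift_snd_assoc, hr, Category.id_comp, inv_mul_cancel_right]

include hFi hk hsm hconn in
/-- dimension of the fibres of the derived group -/
theorem dim_derived (hN : ∀ m : D.M, m ∈ N ↔ ∀ a : D.idx, D.P.coroot a m = 0) (s : S) :
    topologicalKrullDim ↥(Red.geomFibre s D').left =
      ((Module.finrank ℤ (D.M ⧸ N) + Fintype.card D.idx : ℕ) : WithBot ℕ∞) := by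
  haveI := free_quot D.P N hN
  haveI := finite_quot (M := D.M) N
  obtain ⟨π, -, -, hπ, -, -⟩ := Coroot.exists_retract D N hN
  obtain ⟨e⟩ := nonempty_prod_iso D d F hFi hk hπ
  let p := Red.geomPt s
  let K := AlgebraicClosure (S.residueField s)
  haveI : Module.Finite ℤ ↥N := Module.Finite.iff_addGroup_fg.2 (by
    have := (inferInstance : Module.Finite ℤ (AddSubgroup.toIntSubmodule N))
    exact Module.Finite.iff_addGroup_fg.1 this)
  haveI : Module.Free ℤ ↥N := Module.Free.of_equiv (LinearEquiv.refl ℤ (AddSubgroup.toIntSubmodule N) :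
    _ ≃ₗ[ℤ] ↥N)
  let r := Module.finrank ℤ ↥N
  have hr : topologicalKrullDim ↥(Red.DS (Spec (CommRingCat.of K)) ↥N).left = (r : WithBot ℕ∞) :=
    Groth.L08.Borel.dim_of_split ⟨TorLift.dsCongr _ (Module.finBasis ℤ ↥N).equivFun.toAddEquiv⟩
  haveI : IsAffine (Red.DS (Spec (CommRingCat.of K)) ↥N).left := by
    haveI : IsAffine (Red.diag (ULift.{u} ℤ) ↥N).left := inferInstanceAs (IsAffine (Spec _))
    haveI : IsAffineHom (Red.diag (ULift.{u} ℤ) ↥N).hom := isAffineHom_of_isAffine _
    haveI : IsAffineHom (Red.DS (Spec (CommRingCat.of K)) ↥N).hom :=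
      MorphismProperty.pullback_snd _ _ ‹IsAffineHom (Red.diag (ULift.{u} ℤ) ↥N).hom›
    exact isAffine_of_isAffineHom (Red.DS (Spec (CommRingCat.of K)) ↥N).hom
  haveI := (Groth.L14.Chev.Cell.affSmooth_DS (Spec (CommRingCat.of K)) ↥N).2
  haveI : Nonempty (Red.DS (Spec (CommRingCat.of K)) ↥N).left := by
    obtain ⟨x⟩ : Nonempty ↥(Spec (CommRingCat.of K)) := inferInstance
    exact ⟨(η[Red.DS (Spec (CommRingCat.of K)) ↥N] : _).left.base x⟩
  obtain ⟨haff, hsmf, hredf⟩ := isReductive_derived D d F hk hsm hconn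
  haveI : IsAffine (Red.geomFibre s D').left := (hredf s).1
  haveI : Smooth (Red.geomFibre s D').hom := (hredf s).2.1
  haveI := (hredf s).2.2.1
  let e1 : Red.geomFibre s D' ⊗ Red.DS (Spec (CommRingCat.of K)) ↥N ≅ Red.geomFibre s G :=
    (Iso.refl _ ⊗ᵢ (SplitSub.bcDS p).symm) ≪≫ Functor.Monoidal.μIso (Over.pullback p) D' (Red.DS S ↥N) ≪≫
      (Over.pullback p).mapIso e
  obtain ⟨a, c, ha, hc, hac⟩ := dim_tensor (Red.geomFibre s D') (Red.DS (Spec (CommRingCat.of K)) ↥N)
  have htot : ((a + c : ℕ) : WithBot ℕ∞) = ((Module.finrank ℤ D.M + Fintype.card D.idx : ℕ) : WithBot ℕ∞) := by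
    rw [← hac, ← D.dim_fibre s]
    exact IsHomeomorph.topologicalKrullDim_eq _ (Scheme.homeoOfIso ((Over.forget _).mapIso e1)).isHomeomorph
  have hrk : Module.finrank ℤ (D.M ⧸ N) + r = Module.finrank ℤ D.M :=
    Submodule.finrank_quotient_add_finrank (AddSubgroup.toIntSubmodule N)
  rw [hc] at hr
  have hcr : c = r := by exact_mod_cast hr
  have htot' : a + c = Module.finrank ℤ D.M + Fintype.card D.idx := by exact_mod_cast htot
  rw [ha, show a = Module.finrank ℤ (D.M ⧸ N) + Fintype.card D.idx by omega]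

include hFi hk hsm hconn in
/-- **The splitting of the derived group.** -/
theorem exists_split (hN : ∀ m : D.M, m ∈ N ↔ ∀ a : D.idx, D.P.coroot a m = 0) :
    ∃ (Dd : Red.SplitRed D') (τ : Dd.T ⟶ D.T) (eidx : Dd.idx ≃ D.idx) (em : Dd.M ≃+ D.M ⧸ N),
      τ ≫ D.i = Dd.i ≫ d ∧
      τ ≫ D.split.hom.hom.hom =
        Dd.split.hom.hom.hom ≫ Red.DSmap S (em.symm.toAddMonoidHom.comp (QuotientAddGroup.mk' N)) ∧
      (∀ a' : Dd.idx, em (Dd.P.root a') = QuotientAddGroup.mk' N (D.P.root (eidx a'))) ∧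
      (∀ a' : Dd.idx, Dd.u a' ≫ d = D.u (eidx a')) := by
  haveI := free_quot D.P N hN
  haveI := finite_quot (M := D.M) N
  haveI := mono_d D d F hk
  haveI := isClosedImmersion_d D d F hk
  haveI := isMonHom_i (D := D)
  obtain ⟨i', hi'⟩ := exists_lift D d F hk (corS D N ≫ D.i) (corS_comp D F hFi)
  have hua : ∀ a : D.idx, ∃ v : Red.Ga S ⟶ D', v ≫ d = D.u a := fun a =>
    exists_lift D d F hk (D.u a) (by simpa only [Category.id_comp] using root_comp D F a (𝟙 _))
  choose u' hu' using hua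
  haveI hum : ∀ a, IsMonHom (u' a) := fun a => by
    haveI := (D.rootHom a).1
    exact isMonHom_of_comp d (u' a) _ (hu' a)
  have hTc : ∀ (X : Over S) (p q : X ⟶ D.T), p * q = q * p := fun X p q => by
    haveI : IsMonHom D.split.hom.hom.hom := inferInstance
    haveI : IsIso D.split.hom.hom.hom :=
      ⟨D.split.inv.hom.hom, congrArg (fun f => f.hom.hom) D.split.hom_inv_id,
        congrArg (fun f => f.hom.hom) D.split.inv_hom_id⟩
    rw [← cancel_mono D.split.hom.hom.hom, MonObj.mul_comp, MonObj.mul_comp]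
    exact DS_comm _ _
  refine ⟨{ T := Red.DS S (D.M ⧸ N)
            i := i'
            M := D.M ⧸ N
            idx := D.idx
            P := quotPairing D.P D.pairing_eq N hN
            pairing_eq := rfl
            u := u'
            reductive := isReductive_derived D d F hk hsm hconn
            maximalTorus := isMaximalTorus_lift D hN d F hFi (comp_F D d F hk) i' hi'
            split := Iso.refl _
            rootHom := fun a => ⟨hum a, ?_, fun X t x => ?_⟩
            refl := fun a => ?_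
            dim_fibre := dim_derived D d F hFi hk hsm hconn hN },
    corS D N, Equiv.refl _, AddEquiv.refl _, hi'.symm, ?_, fun a => rfl, hu'⟩
  · haveI : IsClosedImmersion ((u' a).left ≫ d.left) := by
      rw [← Over.comp_left, hu']; exact (D.rootHom a).2.1
    exact IsClosedImmersion.of_comp _ d.left
  · obtain ⟨y, hy, hyv⟩ := (D.rootHom a).2.2 X (t ≫ corS D N) x
    refine ⟨y, (cancel_mono d).1 ?_, ?_⟩
    · let Φ : (X ⟶ D') →* (X ⟶ G) := MonoidHom.mk' (fun q => q ≫ d) fun p q => MonObj.mul_comp p q d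
      show _ = Φ ((t ≫ i') * (x ≫ u' a) * (t ≫ i')⁻¹)
      rw [map_mul, map_mul, map_inv, Category.assoc, hu', hy]
      show _ = ((t ≫ i') ≫ d) * ((x ≫ u' a) ≫ d) * ((t ≫ i') ≫ d)⁻¹
      simp only [Category.assoc, hu', hi']
    · rw [hyv]
      congr 1
      show _ = Red.gmFn (t ≫ 𝟙 _ ≫ Red.chi S (QuotientAddGroup.mk' N (D.P.root a)))
      rw [Category.id_comp, Category.assoc, ← Category.assoc (corS D N), corS_hom, ← Category.assoc,
        Luna.SemiRank.gmFn_chi', Luna.SemiRank.gmFn_chi', SplitSub.char_DSmap]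
      rfl
  · obtain ⟨n, hn⟩ := D.refl a
    obtain ⟨π, -, -, hπ, -, -⟩ := Coroot.exists_retract D N hN
    obtain ⟨m, hm⟩ := exists_lift D d F hk (n * ((n ≫ F) ≫ sect D π)⁻¹) (by
      let Φ : (𝟙_ (Over S) ⟶ G) →* (𝟙_ (Over S) ⟶ Red.DS S ↥N) :=
        MonoidHom.mk' (fun p => p ≫ F) fun p q => MonObj.mul_comp p q F
      show Φ (n * ((n ≫ F) ≫ sect D π)⁻¹) = 1
      rw [map_mul, map_inv]
      show (n ≫ F) * (((n ≫ F) ≫ sect D π) ≫ F)⁻¹ = 1
      rw [Category.assoc (n ≫ F), sect_comp D F hFi hπ, Category.comp_id, mul_inv_cancel])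
    refine ⟨m, fun X t => (cancel_mono d).1 ?_⟩
    let Φ : (X ⟶ D') →* (X ⟶ G) := MonoidHom.mk' (fun q => q ≫ d) fun p q => MonObj.mul_comp p q d
    show Φ ((toUnit X ≫ m) * (t ≫ i') * (toUnit X ≫ m)⁻¹) = _
    rw [map_mul, map_mul, map_inv]
    show ((toUnit X ≫ m) ≫ d) * ((t ≫ i') ≫ d) * ((toUnit X ≫ m) ≫ d)⁻¹ = _
    simp only [Category.assoc, hm, hi', MonObj.comp_mul, GrpObj.comp_inv]
    have hcomm := congrArg (· ≫ D.i) (hTc X (toUnit X ≫ (n ≫ F) ≫ Red.DSmap S π ≫ D.split.inv.hom.hom)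
      (t ≫ corS D N))
    simp only [MonObj.mul_comp, Category.assoc] at hcomm
    rw [mul_inv_rev, inv_inv]
    simp only [sect, Category.assoc]
    have hconj : ∀ a w v : X ⟶ G, w * v = v * w → a * w⁻¹ * v * (w * a⁻¹) = a * v * a⁻¹ := fun a w v h => by
      have h' : w⁻¹ * v * w = v := by
        rw [_root_.mul_assoc, ← h, ← _root_.mul_assoc, inv_mul_cancel, _root_.one_mul]
      calc a * w⁻¹ * v * (w * a⁻¹) = a * (w⁻¹ * v * w) * a⁻¹ := by simp only [_root_.mul_assoc]
        _ = a * v * a⁻¹ := by rw [h']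
    refine (hconj _ _ _ hcomm).trans ?_
    have hn' := hn X (t ≫ corS D N)
    simp only [Category.assoc] at hn'
    rw [hn']
    show _ = t ≫ 𝟙 _ ≫ Red.DSmap S ((quotPairing D.P D.pairing_eq N hN).reflection a).toLinearMap.toAddMonoidHom ≫
      𝟙 _ ≫ corS D N ≫ D.i
    rw [Category.id_comp, Category.id_comp, ← Category.assoc (corS D N), corS_hom]
    congr 1
    rw [← Category.assoc, TorusTorsion.DSmap_comp, corS, Category.assoc,
      ← Category.assoc (Red.DSmap S ((quotPairing D.P D.pairing_eq N hN).reflection a).toLinearMap.toAddMonoidHom),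
      TorusTorsion.DSmap_comp]
    congr 2
    exact AddMonoidHom.ext fun m => (quotPairing_reflection D.P D.pairing_eq N hN a m).symm
  · exact (corS_hom D).trans (Category.id_comp _).symm

end Groth.L14.DerGrp
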